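import Groth.Agent.CohDev.AlgzPrincipal.TorsionFree

/-!
The algebraization theorem in the form of completions along `V(t)`.
-/

set_option autoImplicit false
set_option linter.style.haveILetI false

universe u

open CategoryTheory CategoryTheory.Limits AlgebraicGeometry Opposite TopologicalSpace
open Groth.LocCohTransform.Punct (UU Φ)

namespace Groth.CohDev.AlgzPrincipal

private lemma iso_trans_app {C D : Type*} [Category C] [Category D] {F G H : C ⥤ D} (a : F ≅ G) (b : G ≅ H) (X : C) :
    (a ≪≫ b).app X = a.app X ≪≫ b.app X := Iso.ext rfl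

theorem e_eq {X : Scheme.{u}} (𝓘 : X.IdealSheafData) (F : X.Modules) (n : ℕ) :
    (FSch.complTransIso 𝓘 n).app F = (FSch.completionMod 𝓘 F).e n := by
  show (FSch.complTransIso 𝓘 n).app F = (Scheme.Modules.pullbackComp (Scheme.IdealSheafData.inclusion (FSch.pow_succ_le X 𝓘 n))
      (FSch.completionToX X 𝓘 (n + 1))).app F ≪≫
    (Scheme.Modules.pullbackCongr (Scheme.IdealSheafData.inclusion_subschemeι (FSch.pow_succ_le X 𝓘 n))).app F
  rw [FSch.complTransIso]
  exact iso_trans_app _ _ F
theorem complMod_eq_completionMod {X : Scheme.{u}} (𝓘 : X.IdealSheafData) (F : X.Modules) :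
    FSch.complMod 𝓘 F = FSch.completionMod 𝓘 F := by
  have h := funext (e_eq 𝓘 F)
  unfold FSch.complMod
  rw [h]
  rfl

theorem exists_algebraization_completionMod {R : Type u} [CommRing R] [IsRegularRing R] {A : Type u}
    [CommRing A] [IsNoetherianRing A] (π : R →+* A) (hπ : Function.Surjective π) (t : A)
    [IsAdicComplete (Ideal.span {t}) A] (I : Ideal A) (W : (Spec (CommRingCat.of A)).Opens)
    (hW : W = LocCoh.puncturedOpen A I)
    (𝔐 : FSch.ModSys (FSch.completionAlong (W : Scheme.{u})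
      ((Spec.map (CommRingCat.ofHom (Ideal.Quotient.mk (Ideal.span {t})))).ker.comap W.ι)))
    (hcoh : 𝔐.IsCoh)
    (hreg : ∀ N : ℕ, 1 ≤ N →
      kernelSubobject (Formal.smulModΓ (𝔐.F N)
        ((((FSch.completionToX (W : Scheme.{u})
          ((Spec.map (CommRingCat.ofHom (Ideal.Quotient.mk (Ideal.span {t})))).ker.comap W.ι) N) ≫ W.ι).appTop.hom
            ((Scheme.ΓSpecIso (CommRingCat.of A)).inv t)) ^ N)) =
      imageSubobject (Formal.smulModΓ (𝔐.F N)
        (((FSch.completionToX (W : Scheme.{u})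
          ((Spec.map (CommRingCat.ofHom (Ideal.Quotient.mk (Ideal.span {t})))).ker.comap W.ι) N) ≫ W.ι).appTop.hom
            ((Scheme.ΓSpecIso (CommRingCat.of A)).inv t))))
    (hdepth : ∀ y : (FSch.completionAlong (W : Scheme.{u})
        ((Spec.map (CommRingCat.ofHom (Ideal.Quotient.mk (Ideal.span {t})))).ker.comap W.ι)).X 0,
      SGA2.relCodim I ((FSch.completionToX (W : Scheme.{u})
        ((Spec.map (CommRingCat.ofHom (Ideal.Quotient.mk (Ideal.span {t})))).ker.comap W.ι) 0 ≫ W.ι).base y) = 1 →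
        (2 : ℕ∞) ≤ LocCoh.depth (((FSch.completionAlong (W : Scheme.{u})
          ((Spec.map (CommRingCat.ofHom (Ideal.Quotient.mk (Ideal.span {t})))).ker.comap W.ι)).X 0).presheaf.stalk y)
          ((𝔐.F 0).presheaf.stalk y)) :
    ∃ F : (W : Scheme.{u}).Modules, Coh.IsCoh F ∧
      Nonempty (FSch.completionMod
        ((Spec.map (CommRingCat.ofHom (Ideal.Quotient.mk (Ideal.span {t})))).ker.comap W.ι) F ≅ 𝔐) := by
  subst hW
  obtain ⟨F, hF, h⟩ := exists_algebraization π hπ t I _ (by rfl) 𝔐 hcoh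
    (fun N hN => by
      refine Eq.trans ?_ ((hreg N hN).trans rfl)
      change kernelSubobject (Formal.smulModΓ (𝔐.F N) (Coh.toGlobal _ (t ^ N))) = _
      rw [map_pow]
      rfl)
    hdepth
  exact ⟨F, hF, ⟨eqToIso (complMod_eq_completionMod _ F).symm ≪≫ h.some⟩⟩

end Groth.CohDev.AlgzPrincipal
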