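import Groth.Agent.CohDev.AlgzPrincipal.Finite
import Groth.Agent.LocCohTransform.FormalTorsion
import Groth.Agent.LocCohBase.HomExtend
import Groth.Agent.Misc15.RankLe

/-!
Maps into a finite locally free module on a punctured open are maps of completions when the low
local cohomology of the ring is killed by a power of `f`.
-/

set_option autoImplicit false
set_option linter.style.haveILetI false

universe u

open CategoryTheory CategoryTheory.Limits AlgebraicGeometry Opposite TopologicalSpace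
open Groth.LocCohTransform.Punct (UU Φ)
open Groth.LocCohBase (HH')
open Groth.CohC3 (IsQuot sysMap)

namespace Groth.CohDev.AlgzPrincipal

variable {A : Type u} [CommRing A] (I : Ideal A) (t : A)

/-- Killed by a power of `t`. -/
def PowKilled (M : Type u) [AddCommGroup M] [Module A M] : Prop := ∃ d : ℕ, ∀ x : M, t ^ d • x = 0

theorem powKilled_of_exact {X Y Z : Type u} [AddCommGroup X] [Module A X] [AddCommGroup Y] [Module A Y]
    [AddCommGroup Z] [Module A Z] (f : X →ₗ[A] Y) (g : Y →ₗ[A] Z) (h : Function.Exact f g)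
    (hX : PowKilled t X) (hZ : PowKilled t Z) : PowKilled t Y := by
  obtain ⟨a, ha⟩ := hX
  obtain ⟨b, hb⟩ := hZ
  refine ⟨a + b, fun y => ?_⟩
  obtain ⟨x, hx⟩ := (h (t ^ b • y)).1 (by rw [map_smul, hb])
  rw [pow_add, mul_smul, ← hx, ← map_smul, ha, map_zero]

variable [IsNoetherianRing A]

theorem powKilled_HH'_zero (ht : t ∈ I) (M : ModuleCat.{u} A) [Module.Finite A M] :
    PowKilled t (HH' I 0 M) := by
  classical
  have : Module.Finite A (HH' I 0 M) := finite_HH'_zero I M
  obtain ⟨s, hs⟩ := Module.Finite.fg_top (R := A) (M := HH' I 0 M)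
  choose n hn using fun x : HH' I 0 M => LocCohBase.exists_pow_smul_eq_zero 0 M x
  refine ⟨s.sup n, fun x => ?_⟩
  have hle : ⊤ ≤ LinearMap.ker (LinearMap.lsmul A (HH' I 0 M) (t ^ s.sup n)) := by
    rw [← hs, Submodule.span_le]
    intro y hy
    exact hn y _ (Ideal.pow_le_pow_right (Finset.le_sup (f := n) hy) (Ideal.pow_mem_pow ht _))
  exact hle (Submodule.mem_top (x := x))

theorem powKilled_HH'_pi {M : Type u} [AddCommGroup M] [Module A M] (i : ℕ)
    (h : PowKilled t (HH' I i (ModuleCat.of A M))) (n : ℕ) :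
    PowKilled t (HH' I i (ModuleCat.of A (Fin n → M))) := by
  induction n with
  | zero =>
    refine ⟨0, fun x => ?_⟩
    obtain ⟨k, α, rfl⟩ := LocCohBase.exists_rep i (ModuleCat.of A (Fin 0 → M)) x
    have hz : IsZero (ModuleCat.of A (Fin 0 → M)) := ModuleCat.isZero_of_subsingleton _
    rw [← Abelian.Ext.comp_mk₀_id α, hz.eq_of_src (𝟙 _) 0, Abelian.Ext.mk₀_zero,
      Abelian.Ext.comp_zero, map_zero, smul_zero]
  | succ n ih =>
    let tail : (Fin (n + 1) → M) →ₗ[A] (Fin n → M) := LinearMap.funLeft A M Fin.succ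
    let S : ShortComplex (ModuleCat.{u} A) := ShortComplex.mk
      (ModuleCat.ofHom (LinearMap.single A (fun _ : Fin (n + 1) => M) 0)) (ModuleCat.ofHom tail) (by
        ext x j
        exact Pi.single_eq_of_ne (M := fun _ : Fin (n + 1) => M) (Fin.succ_ne_zero j) x)
    have hS : S.ShortExact :=
      { exact := (ShortComplex.moduleCat_exact_iff _).2 fun x hx => by
          refine ⟨x 0, funext fun j => ?_⟩
          refine Fin.cases ?_ (fun j => ?_) j
          · exact Pi.single_eq_same (M := fun _ : Fin (n + 1) => M) 0 (x 0)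
          · exact (Pi.single_eq_of_ne (M := fun _ : Fin (n + 1) => M) (Fin.succ_ne_zero j) (x 0)).trans
              (congrFun hx j).symm
        mono_f := (ModuleCat.mono_iff_injective _).2
          (fun x y h => Pi.single_injective (M := fun _ : Fin (n + 1) => M) 0 h)
        epi_g := (ModuleCat.epi_iff_surjective _).2 fun y => ⟨Fin.cons 0 y, funext fun j =>
          Fin.cons_succ (α := fun _ => M) (0 : M) y j⟩ }
    exact powKilled_of_exact t ((localCohomology I i).map S.f).hom ((localCohomology I i).map S.g).hom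
      (LocCohBase.exact₂ hS i) h ih

theorem powKilled_HH'_ker (ht : t ∈ I) {M₀ : Type u} [AddCommGroup M₀] [Module A M₀] [Module.Finite A M₀]
    (h₁ : PowKilled t (HH' I 1 (ModuleCat.of A M₀))) (h₂ : PowKilled t (HH' I 2 (ModuleCat.of A M₀)))
    {p q : ℕ} (ψ : (Fin p → M₀) →ₗ[A] (Fin q → M₀)) :
    PowKilled t (HH' I 1 (ModuleCat.of A (LinearMap.ker ψ))) ∧
      PowKilled t (HH' I 2 (ModuleCat.of A (LinearMap.ker ψ))) := by
  let C := LinearMap.range ψ
  have hC0 : PowKilled t (HH' I 0 (ModuleCat.of A C)) := powKilled_HH'_zero I t ht _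
  have hC1 : PowKilled t (HH' I 1 (ModuleCat.of A C)) :=
    powKilled_of_exact t (LocCohBase.δ (I := I) (LocCohBase.subSeq_shortExact C) 0)
      ((localCohomology I 1).map (LocCohBase.subSeq C).f).hom
      (LocCohBase.exact₁ (LocCohBase.subSeq_shortExact C) 0) (powKilled_HH'_zero I t ht _)
      (powKilled_HH'_pi I t 1 h₁ q)
  exact ⟨powKilled_of_exact t (LocCohBase.δ (I := I) (shortExact_rangeSeq ψ) 0)
      ((localCohomology I 1).map (rangeSeq ψ).f).hom (LocCohBase.exact₁ (shortExact_rangeSeq ψ) 0)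
      hC0 (powKilled_HH'_pi I t 1 h₁ p),
    powKilled_of_exact t (LocCohBase.δ (I := I) (shortExact_rangeSeq ψ) 1)
      ((localCohomology I 2).map (rangeSeq ψ).f).hom (LocCohBase.exact₁ (shortExact_rangeSeq ψ) 1)
      hC1 (powKilled_HH'_pi I t 2 h₂ p)⟩

/-- Finite locally free modules are locally free modulo `0`. -/
theorem isFinLocFreeMod_bot {E : (UU I).Modules} (hE : FlatMod.IsFinLocFree E) :
    Formal2.IsFinLocFreeMod (Ideal.span ({0} : Set A)) 1 E := fun x => by
  obtain ⟨U, n, hxU, ⟨e⟩⟩ := hE x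
  refine ⟨U, n, hxU, ⟨e ≪≫ (Misc15.restrictFreeIso U.ι n).symm ≪≫ (Scheme.Modules.restrictFunctor U.ι).mapIso ?_⟩⟩
  have h : IsIso (Formal.modPowπ (Ideal.span ({0} : Set A)) 1 (FlatMod.freeMod (UU I) n)) :=
    (CohC3.isQuot_modPowπ _ 1 _).isIso_of_killedBy fun a ha => by
      rw [pow_one, Ideal.mem_span_singleton, zero_dvd_iff] at ha
      rw [ha, CohC3.smulMod_zero]
  exact @asIso _ _ _ _ _ h

theorem toHHlim_bijective [IsAdicComplete (Ideal.span {t}) A] (ht : t ∈ I)
    (h₁ : ∃ n : ℕ, ∀ x : LocCoh.H I 1 A, t ^ n • x = 0) (h₂ : ∃ n : ℕ, ∀ x : LocCoh.H I 2 A, t ^ n • x = 0)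
    {E : (UU I).Modules} [E.IsQuasicoherent] (hE : FlatMod.IsFinLocFree E) :
    Function.Bijective (Formal.toHHlim (Ideal.span {t}) E 0) := by
  have hkill : Formal.KilledBy (Ideal.span ({0} : Set A) ^ 1) E := fun a ha => by
    rw [pow_one, Ideal.mem_span_singleton, zero_dvd_iff] at ha
    rw [ha, CohC3.smulMod_zero]
  obtain ⟨p, q, ψ, ⟨e⟩⟩ := exists_iso_syzygy I (0 : A) E hkill (isFinLocFreeMod_bot I hE)
  let e₀ : (A ⧸ Ideal.span ({0} : Set A)) ≃ₗ[A] A :=
    (Submodule.quotEquivOfEqBot _ (Ideal.span_singleton_eq_bot.2 rfl))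
  have tr : ∀ i, (∃ n : ℕ, ∀ x : LocCoh.H I i A, t ^ n • x = 0) →
      PowKilled t (HH' I i (ModuleCat.of A (A ⧸ Ideal.span ({0} : Set A)))) := fun i ⟨n, hn⟩ =>
    ⟨n, fun x => ((localCohomology I i).mapIso e₀.toModuleIso).toLinearEquiv.injective (by
      rw [map_smul, map_zero]; exact hn _)⟩
  obtain ⟨⟨d₁, hd₁⟩, ⟨d₂, hd₂⟩⟩ := powKilled_HH'_ker I t ht (tr 1 h₁) (tr 2 h₂) ψ
  let K : ModuleCat.{u} A := ModuleCat.of A (LinearMap.ker ψ)
  let ψ₀ := EulerDeg.hEquiv A e 0
  let ψ₁ := EulerDeg.hEquiv A e 1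
  have : Module.Finite A (LinearMap.range (LocCohTransform.Punct.γ I K)) := Module.Finite.range _
  let N : Submodule A (Coh.HH (UU I) E 0) :=
    (LinearMap.range (LocCohTransform.Punct.γ I K)).map ψ₀.toLinearMap
  have : Module.Finite A N := Module.Finite.map _ _
  refine LocCohTransform.FormalTorsion.bijective t E
    (QCohMod.isCoh_of_iso e (LocCohTransform.Punct.isCoh_Φ I K)) 0 N d₁ (fun x => ?_) d₂ (fun x => ?_)
  · obtain ⟨y, rfl⟩ := ψ₀.surjective x
    exact ⟨t ^ d₁ • y, LocCohTransform.Punct.killed_coker_γ I K (t ^ d₁) hd₁ y, map_smul ψ₀.toLinearMap _ _⟩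
  · obtain ⟨y, rfl⟩ := ψ₁.surjective x
    rw [← map_smul, LocCohTransform.Punct.killed_HH_Φ_succ I (t ^ d₂) 0 K hd₂ y, map_zero]

omit t in
/-- Maps of completions into a module with complete sections come from maps. -/
theorem existsUnique_hom (J : Ideal A) {E E' : (UU I).Modules} [E.IsQuasicoherent]
    (hE' : Function.Bijective (Formal.toHHlim J E' 0))
    (ψ : Formal.completion J E ⟶ Formal.completion J E') :
    ∃! φ : E ⟶ E', ∀ n : ℕ, Formal.modPowπ J (n + 1) E ≫ ψ.app (op n) = φ ≫ Formal.modPowπ J (n + 1) E' := by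
  let adj : Φ I ⊣ Ψ I := (tilde.adjunction (R := CommRingCat.of A)).comp
    (Scheme.Modules.restrictAdjunction (LocCoh.puncturedOpen A I).ι)
  let P : ModuleCat.{u} A := (Ψ I).obj E
  have := isIso_ε I E
  let iso : (Φ I).obj P ≅ E := asIso ((ε I).app E)
  let π : ∀ n, (Ψ I).obj E' →ₗ[A] (Ψ I).obj (Formal.modPow J (n + 1) E') := fun n =>
    ((Ψ I).map (Formal.modPowπ J (n + 1) E')).hom
  have hπ : ∀ n x, (h0 I (Formal.modPow J (n + 1) E')).symm (π n x) =
      Formal.toHHmodPow J E' 0 n ((h0 I E').symm x) := fun n x =>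
    h0_symm_map I (Formal.modPowπ J (n + 1) E') x
  have huniq : ∀ x x' : (Ψ I).obj E', (∀ n, π n x = π n x') → x = x' := fun x x' h =>
    (h0 I E').symm.injective (hE'.1 (Subtype.ext (funext fun n =>
      (hπ n x).symm.trans ((congrArg _ (h n)).trans (hπ n x')))))
  let q : ∀ n, P ⟶ (Ψ I).obj (Formal.modPow J (n + 1) E') := fun n =>
    adj.homEquiv _ _ (iso.hom ≫ Formal.modPowπ J (n + 1) E ≫ ψ.app (op n))
  have hq : ∀ n, q (n + 1) ≫ (Ψ I).map (Formal.modPowTrans J (n + 1) E') = q n := fun n => by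
    have hn := ψ.naturality (homOfLE (Nat.le_succ n)).op
    rw [CohC3.completion_map_succ, CohC3.completion_map_succ] at hn
    rw [← adj.homEquiv_naturality_right]
    refine congrArg (adj.homEquiv _ _) ?_
    rw [Category.assoc, Category.assoc]
    refine congrArg (iso.hom ≫ ·) ?_
    exact (congrArg (Formal.modPowπ J (n + 1 + 1) E ≫ ·) hn).symm.trans
      ((Category.assoc _ _ _).symm.trans (congrArg (· ≫ ψ.app (op n)) (Formal.modPowπ_trans J (n + 1) E)))
  have hex : ∀ m : P, ∃ x : (Ψ I).obj E', ∀ n, π n x = q n m := fun m => by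
    obtain ⟨z, hz⟩ := hE'.2 ⟨fun n => (h0 I _).symm (q n m), fun n => by
      refine Eq.trans (h0_symm_map I (Formal.modPowTrans J (n + 1) E') (q (n + 1) m)).symm ?_
      exact congrArg (h0 I _).symm (congr($(hq n) m))⟩
    refine ⟨h0 I E' z, fun n => (h0 I _).symm.injective ?_⟩
    rw [hπ, LinearEquiv.symm_apply_apply]
    exact congrFun (congrArg Subtype.val hz) n
  choose χ hχ using hex
  let χl : P →ₗ[A] (Ψ I).obj E' :=
    { toFun := χ
      map_add' := fun a b => huniq _ _ fun n => by rw [map_add, hχ, hχ, hχ, map_add]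
      map_smul' := fun c a => huniq _ _ fun n => by rw [RingHom.id_apply, map_smul, hχ, hχ, map_smul] }
  let φ : E ⟶ E' := iso.inv ≫ (adj.homEquiv _ _).symm (ModuleCat.ofHom (X := P) (Y := (Ψ I).obj E') χl)
  have key : ∀ φ' : E ⟶ E', (∀ n, Formal.modPowπ J (n + 1) E ≫ ψ.app (op n) = φ' ≫ Formal.modPowπ J (n + 1) E') ↔
      ∀ n, adj.homEquiv _ _ (iso.hom ≫ φ') ≫ (Ψ I).map (Formal.modPowπ J (n + 1) E') = q n := fun φ' => by
    refine forall_congr' fun n => ?_
    rw [← adj.homEquiv_naturality_right, Category.assoc]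
    refine ⟨fun h => congrArg (adj.homEquiv _ _) (congrArg (iso.hom ≫ ·) h.symm), fun h => ?_⟩
    exact ((cancel_epi iso.hom).1 ((adj.homEquiv _ _).injective h)).symm
  have hφ : adj.homEquiv _ _ (iso.hom ≫ φ) = ModuleCat.ofHom (X := P) (Y := (Ψ I).obj E') χl := by
    rw [iso.hom_inv_id_assoc, Equiv.apply_symm_apply]
    rfl
  refine ⟨φ, (key φ).2 fun n => ?_, fun φ' h' => ?_⟩
  · rw [hφ]
    exact ModuleCat.hom_ext (LinearMap.ext fun m => hχ m n)
  · refine (cancel_epi iso.hom).1 ((adj.homEquiv _ _).injective (ModuleCat.hom_ext (LinearMap.ext fun m =>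
      huniq _ _ fun n => ?_)))
    rw [hφ]
    exact (congr($((key φ').1 h' n) m)).trans (hχ m n).symm

end Groth.CohDev.AlgzPrincipal
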