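import Groth.Agent.CohDev.AlgzPrincipal.Psi
import Groth.Agent.LocCohTransform.FormalTorsion
import Groth.Prelude.Def_Formal2

/-!
A coherent formal module on a punctured open comes from a system of finite modules.
-/

set_option autoImplicit false
set_option linter.style.haveILetI false

universe u

open CategoryTheory CategoryTheory.Limits AlgebraicGeometry Opposite TopologicalSpace
open Groth.LocCohTransform.Punct (UU Φ)
open Groth.CohC3 (IsQuot IsSys sysMap)

namespace Groth.CohDev.AlgzPrincipal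

variable {A : Type u} [CommRing A] (I : Ideal A)

theorem isIso_Φ_of_torsion {M N : Type u} [AddCommGroup M] [Module A M] [AddCommGroup N] [Module A N]
    (φ : M →ₗ[A] N) (hinj : Function.Injective φ)
    (hc : LocCoh.IsPowerTorsion I (N ⧸ LinearMap.range φ)) : IsIso ((Φ I).map (ModuleCat.ofHom φ)) := by
  let S : ShortComplex (ModuleCat.{u} A) :=
    ShortComplex.mk (ModuleCat.ofHom φ) (ModuleCat.ofHom (LinearMap.range φ).mkQ) (by
      ext x; exact (Submodule.Quotient.mk_eq_zero _).2 ⟨x, rfl⟩)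
  have hS : S.ShortExact :=
    { exact := (ShortComplex.moduleCat_exact_iff _).2 fun m hm => (Submodule.Quotient.mk_eq_zero _).1 hm
      mono_f := (ModuleCat.mono_iff_injective _).2 hinj
      epi_g := (ModuleCat.epi_iff_surjective _).2 (Submodule.mkQ_surjective _) }
  exact (LocCohTransform.Punct.shortExact_Φ I hS).isIso_f_iff.2 (LocCohTransform.Punct.isZero_Φ I _ hc)

variable [IsNoetherianRing A]

theorem isPowerTorsion_of_isZero (M : ModuleCat.{u} A) (h : IsZero ((Φ I).obj M)) :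
    LocCoh.IsPowerTorsion I M := fun m => by
  have : Subsingleton (Coh.HH (UU I) ((Φ I).obj M) 0) :=
    LocCohTransform.Punct.subsingleton_HH_of_isZero h 0
  exact (LocCohTransform.Punct.γ_eq_zero_iff I M m).1 (Subsingleton.elim _ _)

/-- A finite submodule of sections generating a coherent module. -/
theorem exists_finite_spanning (G : (UU I).Modules) (hG : Coh.IsCoh G) :
    ∃ P : Submodule A ((Ψ I).obj G), Module.Finite A P ∧ LocCoh.IsPowerTorsion I ((Ψ I).obj G ⧸ P) := by
  obtain ⟨M, hM, ⟨e⟩⟩ := LocCohTransform.Punct.exists_finite_iso_Φ I G hG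
  let adj : Φ I ⊣ Ψ I := (tilde.adjunction (R := CommRingCat.of A)).comp
    (Scheme.Modules.restrictAdjunction (LocCoh.puncturedOpen A I).ι)
  let q : M ⟶ (Ψ I).obj G := adj.homEquiv _ _ e.hom
  refine ⟨LinearMap.range q.hom, Module.Finite.range _, isPowerTorsion_of_isZero I (ModuleCat.of A ((Ψ I).obj G ⧸ LinearMap.range q.hom)) ?_⟩
  have : G.IsQuasicoherent := hG.1
  have hε : IsIso (adj.counit.app G) := by
    have : ((Scheme.Modules.pushforward (LocCoh.puncturedOpen A I).ι).obj G).IsQuasicoherent :=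
      QCohMod.isQCoh_pushforward G _
    have := isIso_counit (R := CommRingCat.of A) ((Scheme.Modules.pushforward (LocCoh.puncturedOpen A I).ι).obj G)
    simp only [adj, Adjunction.comp_counit_app]
    infer_instance
  have hq : IsIso ((Φ I).map q) := by
    have h : (Φ I).map q ≫ adj.counit.app G = e.hom :=
      (adj.homEquiv_counit (g := q)).symm.trans ((adj.homEquiv _ _).symm_apply_apply e.hom)
    exact @IsIso.of_isIso_fac_right _ _ _ _ _ _ _ _ hε inferInstance h
  let P : Submodule A ((Ψ I).obj G) := LinearMap.range q.hom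
  let π : (Ψ I).obj G ⟶ ModuleCat.of A ((Ψ I).obj G ⧸ P) :=
    ModuleCat.ofHom (X := (Ψ I).obj G) (Y := (Ψ I).obj G ⧸ P) P.mkQ
  have hπ : Epi ((Φ I).map π) := by
    have : Epi π := (ModuleCat.epi_iff_surjective _).2 P.mkQ_surjective
    infer_instance
  rw [IsZero.iff_id_eq_zero, ← cancel_epi ((Φ I).map π), Category.comp_id, comp_zero,
    ← cancel_epi ((Φ I).map q), comp_zero, ← Functor.map_comp,
    show q ≫ π = 0 from ModuleCat.hom_ext (LinearMap.ext fun x =>
      (Submodule.Quotient.mk_eq_zero P).2 (LinearMap.mem_range_self q.hom x)), Functor.map_zero]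

omit [IsNoetherianRing A] in
theorem smul_eq_zero_of_killedBy {K : Ideal A} {G : (UU I).Modules} (h : Formal.KilledBy K G) {a : A}
    (ha : a ∈ K) (x : (Ψ I).obj G) : a • x = 0 := by
  rw [← Ψ_map_smulMod, h a ha]
  exact (toTop I _).injective rfl

theorem exists_pow_smul_mem_range_of_epi {M N : ModuleCat.{u} A} (φ : M ⟶ N) [Epi ((Φ I).map φ)] (y : N) :
    ∃ m : ℕ, ∀ a ∈ I ^ m, a • y ∈ LinearMap.range φ.hom := by
  let c : N ⟶ ModuleCat.of A (N ⧸ LinearMap.range φ.hom) := ModuleCat.ofHom (LinearMap.range φ.hom).mkQ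
  have : Epi c := (ModuleCat.epi_iff_surjective _).2 (Submodule.mkQ_surjective _)
  have hzero : IsZero ((Φ I).obj (ModuleCat.of A (N ⧸ LinearMap.range φ.hom))) := by
    rw [IsZero.iff_id_eq_zero, ← cancel_epi ((Φ I).map c), Category.comp_id, comp_zero,
      ← cancel_epi ((Φ I).map φ), comp_zero, ← Functor.map_comp,
      show φ ≫ c = 0 from ModuleCat.hom_ext (LinearMap.ext fun z =>
        (Submodule.Quotient.mk_eq_zero _).2 ⟨z, rfl⟩), Functor.map_zero]
  obtain ⟨m, hm⟩ := isPowerTorsion_of_isZero I _ hzero (Submodule.Quotient.mk y)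
  exact ⟨m, fun a ha => (Submodule.Quotient.mk_eq_zero _).1 (hm a ha)⟩

theorem exists_pow_smul_mem_of_isQuot {M N : ModuleCat.{u} A} (φ : M ⟶ N) {J : Ideal A}
    (hle : J • (⊤ : Submodule A M) ≤ LinearMap.ker φ.hom) (hφ : IsQuot J ((Φ I).map φ)) (x : M)
    (hx : φ x = 0) : ∃ m : ℕ, ∀ a ∈ I ^ m, a • x ∈ J • (⊤ : Submodule A M) := by
  let Q : ModuleCat.{u} A := ModuleCat.of A (M ⧸ J • (⊤ : Submodule A M))
  let p : M ⟶ Q := ModuleCat.ofHom (J • (⊤ : Submodule A M)).mkQ
  let d : Q ⟶ N := ModuleCat.ofHom (Submodule.liftQ _ φ.hom hle)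
  have hp : IsQuot J ((Φ I).map p) := LocCohTransform.Punct.isQuot_Φ_mkQ I J M
  have hfac : (Φ I).map p ≫ (Φ I).map d = (Φ I).map φ := by rw [← Functor.map_comp]; rfl
  obtain ⟨χ, hχ⟩ := hφ.desc ((Φ I).map p) hp.le_ann
  have hiso : IsIso ((Φ I).map d) :=
    ⟨χ, hp.hom_ext (by rw [← Category.assoc, hfac, hχ, Category.comp_id]),
      hφ.hom_ext (by rw [← Category.assoc, hχ, hfac, Category.comp_id])⟩
  let k : ModuleCat.of A (LinearMap.ker d.hom) ⟶ Q := ModuleCat.ofHom (LinearMap.ker d.hom).subtype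
  have hk : k ≫ d = 0 := ModuleCat.hom_ext (LinearMap.ext fun z => z.2)
  have : Mono k := (ModuleCat.mono_iff_injective _).2 Subtype.val_injective
  have hzero : IsZero ((Φ I).obj (ModuleCat.of A (LinearMap.ker d.hom))) := by
    refine IsZero.of_mono_eq_zero ((Φ I).map k) ?_
    rw [← cancel_mono ((Φ I).map d), zero_comp, ← Functor.map_comp, hk, Functor.map_zero]
  obtain ⟨m, hm⟩ := isPowerTorsion_of_isZero I _ hzero
    ⟨Submodule.Quotient.mk x, LinearMap.mem_ker.2 ((Submodule.liftQ_apply _ _ _).trans hx)⟩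
  refine ⟨m, fun a ha => ?_⟩
  rw [← Submodule.Quotient.mk_eq_zero, Submodule.Quotient.mk_smul]
  exact congrArg Subtype.val (hm a ha)

theorem exists_module_system (J : Ideal A) (F : ℕᵒᵖ ⥤ (UU I).Modules) (hF : Formal.IsCohFormal J F) :
    ∃ (M : ℕ → Type u) (_ : ∀ n, AddCommGroup (M n)) (_ : ∀ n, Module A (M n)) (g : ∀ n, M (n + 1) →ₗ[A] M n),
      (∀ n, Module.Finite A (M n)) ∧ (∀ n, J ^ (n + 1) • (⊤ : Submodule A (M n)) = ⊥) ∧
      (∀ n (x : M (n + 1)), g n x = 0 → ∃ m : ℕ, ∀ a ∈ I ^ m, a • x ∈ J ^ (n + 1) • (⊤ : Submodule A (M (n + 1)))) ∧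
      (∀ n (y : M n), ∃ m : ℕ, ∀ a ∈ I ^ m, a • y ∈ LinearMap.range (g n)) ∧
      Nonempty (F ≅ Functor.ofOpSequence
        (X := fun n => (Scheme.Modules.restrictFunctor (LocCoh.puncturedOpen A I).ι).obj (Formal2.tmod A (M n)))
        (fun n => (Scheme.Modules.restrictFunctor (LocCoh.puncturedOpen A I).ι).map (Formal2.tmodMap A (g n)))) := by
  have hsys := CohC3.isSys_of_isCohFormal hF
  choose P hPfin hPtor using fun n => exists_finite_spanning I (F.obj (op n)) (hF.1 n)
  let tr : ∀ n, (Ψ I).obj (F.obj (op (n + 1))) →ₗ[A] (Ψ I).obj (F.obj (op n)) := fun n =>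
    ((Ψ I).map (sysMap F (Nat.le_succ n))).hom
  let M : ∀ n, Submodule A ((Ψ I).obj (F.obj (op n))) := fun n =>
    Nat.rec (motive := fun n => Submodule A ((Ψ I).obj (F.obj (op n)))) (P 0)
      (fun n m => P (n + 1) ⊓ m.comap (tr n)) n
  have hMle : ∀ n, M n ≤ P n := fun n => by cases n with
    | zero => exact le_rfl
    | succ n => exact inf_le_left
  have hfin : ∀ n, Module.Finite A (M n) := fun n => by
    have := hPfin n
    exact Module.Finite.of_injective (Submodule.inclusion (hMle n)) (Submodule.inclusion_injective _)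
  have htor : ∀ n (x : (Ψ I).obj (F.obj (op n))), ∃ m, ∀ a ∈ I ^ m, a • x ∈ M n := by
    intro n
    induction n with
    | zero =>
      intro x
      obtain ⟨m, hm⟩ := hPtor 0 (Submodule.Quotient.mk x)
      exact ⟨m, fun a ha => (Submodule.Quotient.mk_eq_zero _).1 (hm a ha)⟩
    | succ n ih =>
      intro x
      obtain ⟨m, hm⟩ := hPtor (n + 1) (Submodule.Quotient.mk x)
      obtain ⟨m', hm'⟩ := ih (tr n x)
      refine ⟨m + m', fun a ha => ⟨(Submodule.Quotient.mk_eq_zero _).1
        (hm a (Ideal.pow_le_pow_right (Nat.le_add_right m m') ha)), ?_⟩⟩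
      change tr n (a • x) ∈ M n
      rw [map_smul]
      exact hm' a (Ideal.pow_le_pow_right (Nat.le_add_left m' m) ha)
  let g : ∀ n, M (n + 1) →ₗ[A] M n := fun n => (tr n).restrict fun x hx => hx.2
  let inc : ∀ n, ModuleCat.of A (M n) ⟶ (Ψ I).obj (F.obj (op n)) := fun n =>
    ModuleCat.ofHom (X := M n) (Y := (Ψ I).obj (F.obj (op n))) (M n).subtype
  have hinc : ∀ n, IsIso ((Φ I).map (inc n)) := fun n =>
    isIso_Φ_of_torsion I _ (M n).subtype_injective fun x => by
      obtain ⟨x, rfl⟩ := Submodule.Quotient.mk_surjective _ x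
      obtain ⟨m, hm⟩ := htor n x
      refine ⟨m, fun a ha => ?_⟩
      rw [← Submodule.Quotient.mk_smul]
      exact (Submodule.Quotient.mk_eq_zero _).2 ⟨⟨a • x, hm a ha⟩, rfl⟩
  have hq : ∀ n, (F.obj (op n)).IsQuasicoherent := fun n => (hF.1 n).1
  have hε : ∀ n, IsIso ((ε I).app (F.obj (op n))) := fun n => @isIso_ε A _ I _ _ (hq n)
  let e : ∀ n, (Φ I).obj (ModuleCat.of A (M n)) ⟶ F.obj (op n) := fun n =>
    (Φ I).map (inc n) ≫ (ε I).app (F.obj (op n))
  have he : ∀ n, IsIso (e n) := fun n => IsIso.comp_isIso' (hinc n) (hε n)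
  have hsq : ∀ n, (Φ I).map (ModuleCat.ofHom (g n)) ≫ e n = e (n + 1) ≫ sysMap F (Nat.le_succ n) := fun n => by
    simp only [e, ← Category.assoc, ← Functor.map_comp]
    rw [Category.assoc ((Φ I).map (inc (n + 1))),
      show ModuleCat.ofHom (g n) ≫ inc n = inc (n + 1) ≫ (Ψ I).map (sysMap F (Nat.le_succ n)) from rfl,
      (Φ I).map_comp, Category.assoc]
    exact congrArg (_ ≫ ·) ((ε I).naturality (sysMap F (Nat.le_succ n)))
  have hgle : ∀ n, (J ^ (n + 1) • ⊤ : Submodule A (M (n + 1))) ≤ LinearMap.ker (g n) := fun n =>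
    Submodule.smul_le.2 fun a ha z _ => Subtype.ext (by
      change tr n (a • z.1) = 0
      rw [map_smul]
      exact smul_eq_zero_of_killedBy I (hF.2.1 n) ha _)
  have hgq : ∀ n, IsQuot (J ^ (n + 1)) ((Φ I).map (ModuleCat.ofHom (g n))) := fun n => by
    have := he n
    have := he (n + 1)
    rw [show (Φ I).map (ModuleCat.ofHom (g n)) = (e (n + 1) ≫ sysMap F (Nat.le_succ n)) ≫ inv (e n) from
      (IsIso.eq_comp_inv (e n)).2 (hsq n)]
    exact ((hsys.isQuot_succ n).iso_comp (e (n + 1))).comp_iso _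
  refine ⟨fun n => M n, fun n => inferInstance, fun n => inferInstance, g, hfin, fun n => ?_,
    fun n x hx => exists_pow_smul_mem_of_isQuot I (ModuleCat.ofHom (g n)) (hgle n) (hgq n) x hx,
    fun n y => ?_, ?_⟩
  · exact le_bot_iff.1 (Submodule.smul_le.2 fun a ha x _ =>
      Subtype.ext (smul_eq_zero_of_killedBy I (hF.2.1 n) ha x.1))
  · have := (hgq n).epi
    exact exists_pow_smul_mem_range_of_epi I (ModuleCat.ofHom (g n)) y
  · let τ : Functor.ofOpSequence
        (X := fun n => (Scheme.Modules.restrictFunctor (LocCoh.puncturedOpen A I).ι).obj (Formal2.tmod A (M n)))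
        (fun n => (Scheme.Modules.restrictFunctor (LocCoh.puncturedOpen A I).ι).map (Formal2.tmodMap A (g n))) ⟶ F :=
      NatTrans.ofOpSequence (fun n => e n) (fun n => by
        rw [Functor.ofOpSequence_map_homOfLE_succ]
        exact hsq n)
    have : ∀ n : ℕᵒᵖ, IsIso (τ.app n) := fun ⟨n⟩ => he n
    have : IsIso τ := NatIso.isIso_of_isIso_app τ
    exact ⟨(asIso τ).symm⟩

end Groth.CohDev.AlgzPrincipal
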