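import Groth.Agent.CohDev.AlgzPrincipal.Main
import Groth.Agent.AdicLinTop.AlgzBridge
import Groth.Agent.LocCohTransform.FormalDepth
import Groth.Agent.CohTwo.PushStalkModule
import Groth.Agent.CohTwo.PushClosed
import Groth.Agent.Ega4Algebra2.DepthFlat
import Groth.Agent.Misc6.DevissageSupp
import Mathlib.Algebra.Homology.ShortComplex.Abelian

/-!
Algebraization of formal modules without torsion along `t`, of depth two in relative codimension one.
-/

set_option autoImplicit false
set_option linter.style.haveILetI false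

universe u

open CategoryTheory CategoryTheory.Limits AlgebraicGeometry Opposite TopologicalSpace
open Groth.CohC3 (IsQuot IsSys sysMap sysMap_comp sysMap_refl)
open Groth.LocCohTransform.Punct (UU Φ)

namespace Groth.CohDev.AlgzPrincipal

section Torsion

variable {A : Type u} [CommRing A] {X : Scheme.{u}} [X.Over (Spec (CommRingCat.of A))] {f : A}
  {G : ℕᵒᵖ ⥤ X.Modules}

/-- The transition maps with multiplication by a power of `f` are exact. -/
lemma exact_mul_sysMap (hG : IsSys (Ideal.span {f}) G) {i k j l : ℕ} (h : i + k = j) (hl : l ≤ j)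
    (hlk : l + 1 = k) (u : G.obj (op i) ⟶ G.obj (op j))
    (hu : sysMap G (Nat.le.intro h) ≫ u = Formal.smulMod A (G.obj (op j)) (f ^ k))
    (w : u ≫ sysMap G hl = 0) : (ShortComplex.mk u (sysMap G hl) w).Exact := by
  subst hlk
  have : Epi (ShortComplex.mk u (sysMap G hl) w).g := (hG.isQuot hl).epi
  refine ShortComplex.exact_of_g_is_cokernel _ (CokernelCofork.IsColimit.ofπ' _ _ fun {Z} g hg => ?_)
  have hann : (Ideal.span {f}) ^ (l + 1) ≤ CohC3.annHom (g : G.obj (op j) ⟶ Z) :=
    CohC3.span_pow_le_annHom f (l + 1) _ (by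
      rw [← hu, Category.assoc]
      exact (congrArg (sysMap G (Nat.le.intro h) ≫ ·) hg).trans comp_zero)
  exact ⟨((hG.isQuot hl).desc g hann).choose, ((hG.isQuot hl).desc g hann).choose_spec⟩

lemma mono_base (hG : IsSys (Ideal.span {f}) G)
    (hex : ∀ N, 1 ≤ N → ∀ (w : Formal.smulMod A (G.obj (op N)) f ≫ Formal.smulMod A (G.obj (op N)) (f ^ N) = 0),
      (ShortComplex.mk _ _ w).Exact)
    {j : ℕ} (hj : 1 ≤ j) (u : G.obj (op 0) ⟶ G.obj (op j))
    (hu : sysMap G (Nat.zero_le j) ≫ u = Formal.smulMod A (G.obj (op j)) (f ^ j)) : Mono u := by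
  refine Preadditive.mono_of_cancel_zero _ fun {T} x hx => ?_
  have := (hG.isQuot (Nat.zero_le j)).epi
  obtain ⟨T', e, he, y, hy⟩ := surjective_up_to_refinements_of_epi (sysMap G (Nat.zero_le j)) x
  have w : Formal.smulMod A (G.obj (op j)) f ≫ Formal.smulMod A (G.obj (op j)) (f ^ j) = 0 := by
    rw [← CohC3.smulMod_mul, ← pow_succ]
    exact hG.killed j _ (Ideal.pow_mem_pow (Ideal.mem_span_singleton_self f) (j + 1))
  have h0 : y ≫ Formal.smulMod A (G.obj (op j)) (f ^ j) = 0 := by
    rw [← hu, ← Category.assoc]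
    exact (congrArg (· ≫ u) hy.symm).trans (by rw [Category.assoc, hx, comp_zero])
  obtain ⟨T'', e', he', z, hz⟩ := (hex j hj w).exact_up_to_refinements y h0
  dsimp at z hz
  rw [← cancel_epi e, comp_zero, hy, ← cancel_epi e', comp_zero, ← Category.assoc, hz,
    Category.assoc, ← CohC3.smulMod_naturality,
    hG.killed 0 f (by simpa using Ideal.mem_span_singleton_self f), comp_zero, comp_zero]

theorem mono_mul_of_exact_smulMod (hG : IsSys (Ideal.span {f}) G)
    (hex : ∀ N, 1 ≤ N → ∀ (w : Formal.smulMod A (G.obj (op N)) f ≫ Formal.smulMod A (G.obj (op N)) (f ^ N) = 0),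
      (ShortComplex.mk _ _ w).Exact)
    (i : ℕ) : ∀ {k j : ℕ} (h : i + k = j) (u : G.obj (op i) ⟶ G.obj (op j)),
      sysMap G (Nat.le.intro h) ≫ u = Formal.smulMod A (G.obj (op j)) (f ^ k) → Mono u := by
  have hkill : ∀ j p, j + 1 ≤ p → Formal.smulMod A (G.obj (op j)) (f ^ p) = 0 := fun j p hp =>
    hG.killed j _ (Ideal.pow_le_pow_right hp (Ideal.pow_mem_pow (Ideal.mem_span_singleton_self f) p))
  induction i with
  | zero =>
    intro k j h u hu
    obtain rfl : k = j := by omega
    rcases Nat.eq_zero_or_pos k with rfl | hk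
    · rw [sysMap_refl, Category.id_comp, pow_zero, CohC3.smulMod_one] at hu
      rw [hu]
      infer_instance
    exact mono_base hG hex hk u hu
  | succ i ih =>
    intro k j h u hu
    refine Preadditive.mono_of_cancel_zero _ fun {T} x hx => ?_
    have hij : i + k + 1 = j := by omega
    obtain ⟨u', hu'⟩ := (hG.isQuot (show i ≤ i + k by omega)).desc (Formal.smulMod A _ (f ^ k))
      (CohC3.span_pow_le_annHom f (i + 1) _ (by rw [← CohC3.smulMod_mul, ← pow_add, hkill _ _ (by omega)]))
    have := ih rfl u' hu'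
    have hcomm : u ≫ sysMap G (show i + k ≤ j by omega) = sysMap G (Nat.le_succ i) ≫ u' := by
      refine (hG.isQuot (Nat.le.intro h)).hom_ext ?_
      rw [← Category.assoc, hu, ← CohC3.smulMod_naturality, ← hu', ← Category.assoc, ← Category.assoc,
        sysMap_comp, sysMap_comp]
    have hx0 : x ≫ sysMap G (Nat.le_succ i) = 0 := by
      rw [← cancel_mono u', zero_comp, Category.assoc, ← hcomm, ← Category.assoc, hx, zero_comp]
    obtain ⟨u₀, hu₀⟩ := (hG.isQuot (Nat.zero_le (i + 1))).desc (Formal.smulMod A _ (f ^ (i + 1)))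
      (CohC3.span_pow_le_annHom f (0 + 1) _ (by rw [← CohC3.smulMod_mul, ← pow_add, hkill _ _ (by omega)]))
    have w : u₀ ≫ sysMap G (Nat.le_succ i) = 0 := by
      refine (hG.isQuot (Nat.zero_le (i + 1))).hom_ext ?_
      rw [← Category.assoc, hu₀, ← CohC3.smulMod_naturality, hkill i (i + 1) le_rfl, comp_zero, comp_zero]
    obtain ⟨T', e, he, y, hy⟩ :=
      (exact_mul_sysMap hG (Nat.zero_add (i + 1)) (Nat.le_succ i) rfl u₀ hu₀ w).exact_up_to_refinements x hx0
    dsimp at y hy
    have hcomp : sysMap G (Nat.zero_le j) ≫ u₀ ≫ u = Formal.smulMod A (G.obj (op j)) (f ^ j) := by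
      rw [← sysMap_comp G (Nat.zero_le (i + 1)) (Nat.le.intro h), Category.assoc,
        ← Category.assoc (sysMap G (Nat.zero_le (i + 1))), hu₀, ← CohC3.smulMod_naturality,
        ← Category.assoc, hu, ← CohC3.smulMod_mul, ← pow_add, h]
    have hbase : Mono (u₀ ≫ u) := mono_base hG hex (by omega) _ hcomp
    have hy0 : y = 0 := by
      rw [← cancel_mono (u₀ ≫ u), zero_comp, ← Category.assoc, ← hy, Category.assoc, hx, comp_zero]
    rw [← cancel_epi e, comp_zero, hy, hy0, zero_comp]

end Torsion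

section Bridge

open Groth.AdicLinTop.AlgzBridge Groth.AdicLinTop.AlgzUnit

variable {A : Type u} [CommRing A] {X : Scheme.{u}} [X.Over (Spec (CommRingCat.of A))]
  {𝓘 : X.IdealSheafData} (𝔐 : FSch.ModSys (FSch.completionAlong X 𝓘))

/-- Exactness of multiplication at a level passes to the direct image. -/
theorem exact_pushSys (t : A) (n : ℕ) {p : ℕ}
    (h : kernelSubobject (Formal.smulMod A (𝔐.F n) (t ^ p)) =
      imageSubobject (Formal.smulMod A (𝔐.F n) t))
    (w : Formal.smulMod A ((pushSys 𝔐).obj (op n)) t ≫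
      Formal.smulMod A ((pushSys 𝔐).obj (op n)) (t ^ p) = 0) :
    (ShortComplex.mk _ _ w).Exact := by
  let a := Formal.smulMod A (𝔐.F n) t
  let b := Formal.smulMod A (𝔐.F n) (t ^ p)
  have key : ∀ S, S = kernelSubobject b → S.arrow ≫ b = 0 := by
    rintro _ rfl
    exact kernelSubobject_arrow_comp b
  have hab : a ≫ b = 0 := by
    rw [← imageSubobject_arrow_comp a, Category.assoc, key _ h.symm, comp_zero]
  have hex : (ShortComplex.mk a b hab).Exact := (ShortComplex.exact_iff_image_eq_kernel _).2 h.symm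
  let P := Scheme.Modules.pushforward (FSch.completionToX X 𝓘 n)
  let e : (ShortComplex.mk a b hab).map P ≅ ShortComplex.mk _ _ w :=
    ShortComplex.isoMk (Iso.refl _) (Iso.refl _) (Iso.refl _)
      ((Category.id_comp _).trans ((CohC3.pushforward_map_smulMod (toX_over 𝓘 n) (𝔐.F n) t).symm.trans
        (Category.comp_id _).symm))
      ((Category.id_comp _).trans ((CohC3.pushforward_map_smulMod (toX_over 𝓘 n) (𝔐.F n) (t ^ p)).symm.trans
        (Category.comp_id _).symm))
  exact ShortComplex.exact_of_iso e (hex.map P)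

end Bridge

section Depth

theorem depth_eq_top_of_subsingleton {R : Type u} [CommRing R] [IsLocalRing R] (M : Type u)
    [AddCommGroup M] [Module R M] [Subsingleton M] : LocCoh.depth R M = ⊤ :=
  if_pos (Subsingleton.elim _ _)

/-- The depth of a stalk of a direct image along a closed immersion. -/
theorem depth_push_stalk {X P : Scheme.{u}} (i : X ⟶ P) [IsClosedImmersion i] (F : X.Modules) (z : X) :
    LocCoh.depth (P.presheaf.stalk (i z))
        (((Scheme.Modules.pushforward i).obj F).presheaf.stalk (i z)) =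
      LocCoh.depth (X.presheaf.stalk z) (F.presheaf.stalk z) := by
  let B₀ := P.presheaf.stalk (i z)
  let B := X.presheaf.stalk z
  let _ : Algebra B₀ B := (i.stalkMap z).hom.toAlgebra
  let _ : Module B₀ (F.presheaf.stalk z) := Module.compHom _ (algebraMap B₀ B)
  have : IsScalarTower B₀ B (F.presheaf.stalk z) := ⟨fun a b m => mul_smul (i.stalkMap z a) b m⟩
  let e : ((Scheme.Modules.pushforward i).obj F).presheaf.stalk (i z) ≃ₗ[B₀] F.presheaf.stalk z :=
    { AddEquiv.ofBijective (CohTwo.pushStalk i F z) (CohTwo.bijective_pushStalk i F z) with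
      map_smul' := fun a t => CohTwo.pushStalk_smul i F z a t }
  exact (LocCohBase.idealDepth_congr e).trans
    (Ega4b.depth_eq_of_surjective_algebraMap (A := B₀) (B := B) (i.stalkMap_surjective z) _)

open Groth.AdicLinTop.AlgzBridge Groth.AdicLinTop.AlgzUnit

variable {A : Type u} [CommRing A] [IsNoetherianRing A]

/-- Algebraization on a punctured open. -/
theorem exists_algebraization {R : Type u} [CommRing R] [IsRegularRing R] (π : R →+* A)
    (hπ : Function.Surjective π) (t : A) [IsAdicComplete (Ideal.span {t}) A] (I : Ideal A)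
    (𝓘 : (UU I).IdealSheafData) (h𝓘 : 𝓘 = baseIdeal (UU I) (Ideal.span {t}))
    (𝔐 : FSch.ModSys (FSch.completionAlong (UU I) 𝓘)) (hcoh : 𝔐.IsCoh)
    (hreg : ∀ N : ℕ, 1 ≤ N → kernelSubobject (Formal.smulMod A (𝔐.F N) (t ^ N)) =
      imageSubobject (Formal.smulMod A (𝔐.F N) t))
    (hdepth : ∀ y : (FSch.completionAlong (UU I) 𝓘).X 0,
      SGA2.relCodim I ((LocCoh.puncturedOpen A I).ι.base (FSch.completionToX (UU I) 𝓘 0 y)) = 1 →
        (2 : ℕ∞) ≤ LocCoh.depth (((FSch.completionAlong (UU I) 𝓘).X 0).presheaf.stalk y)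
          ((𝔐.F 0).presheaf.stalk y)) :
    ∃ F : (UU I).Modules, Coh.IsCoh F ∧ Nonempty (FSch.complMod 𝓘 F ≅ 𝔐) := by
  have hG := isCohFormal_pushSys (Ideal.span {t}) h𝓘 𝔐 hcoh
  have hsys := CohC3.isSys_of_isCohFormal hG
  have H : TFSys I t (pushSys 𝔐) :=
    ⟨hsys, fun n => (hG.1 n).1, fun {i} {k} {j} h u hu =>
      mono_mul_of_exact_smulMod hsys (fun N hN w => exact_pushSys 𝔐 t N (hreg N hN) w) i h u hu⟩
  let i₀ := FSch.completionToX (UU I) 𝓘 0
  have hd : ∀ x : UU I, SGA2.relCodim I ((LocCoh.puncturedOpen A I).ι.base x) = 1 →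
      ((1 + 1 : ℕ) : ℕ∞) ≤ LocCoh.depth ((UU I).presheaf.stalk x)
        (((pushSys 𝔐).obj (op 0)).presheaf.stalk x) := by
    intro x hx
    by_cases hxr : x ∈ Set.range i₀
    · obtain ⟨z, rfl⟩ := hxr
      exact (hdepth z hx).trans (depth_push_stalk i₀ (𝔐.F 0) z).ge
    · have : Subsingleton (((Scheme.Modules.pushforward i₀).obj (𝔐.F 0)).presheaf.stalk x) :=
        not_not.1 fun hs => hxr (CohTwo.support_push_subset i₀ (𝔐.F 0) hs)
      exact le_top.trans (depth_eq_top_of_subsingleton
        (R := (UU I).presheaf.stalk x) (((Scheme.Modules.pushforward i₀).obj (𝔐.F 0)).presheaf.stalk x)).ge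
  have g0 := LocCohTransform.Punct.finite_HH_of_depth π hπ I _ (hG.1 0) 1 hd 0 zero_le_one
  have := LocCohTransform.Punct.finite_HH_of_depth π hπ I _ (hG.1 0) 1 hd 1 le_rfl
  obtain ⟨F, hF, ⟨β⟩⟩ := H.algebraize g0
  have := hF.1
  exact ⟨F, hF, nonempty_iso_complMod (Ideal.span {t}) h𝓘 𝔐 hcoh β⟩

end Depth

end Groth.CohDev.AlgzPrincipal
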